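import Cfsg.Agent.Lib.KnownA.SL2Products.PSL

/-!
# `SL(2, 2^t) = A B A` for a non-split torus `A` and the unitriangular group `B`
-/

set_option autoImplicit false

namespace CfsgLib.KnownA.SL2Products

open scoped MatrixGroups
open CfsgLib.KnownB.GL2 CfsgLib.Classical CfsgLib.KnownA.SL2Torus

variable {F : Type*} [Field F] [Fintype F] [DecidableEq F]

local notation "Mat" => Matrix (Fin 2) (Fin 2) F
local notation "P2" => Matrix.ProjectiveSpecialLinearGroup (Fin 2) F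

theorem exists_torus_col {t₀ d₀ : F} (h₀ : rts t₀ d₀ = ∅) {x y : F} (h : nf t₀ d₀ x y = 1) :
    ∃ a ∈ torS h₀, (a : Mat) = x • (1 : Mat) + y • comp t₀ d₀ :=
  ⟨_, (torSEquiv h₀ ⟨(x, y), h⟩).2, coe_torSEquiv h₀ ⟨(x, y), h⟩⟩

theorem exists_norm_eq [CharP F 2] (t d : F) (g : SL(2, F)) :
    ∃ x y : F, ¬ (x = 0 ∧ y = 0) ∧
      nf t d ((g : Mat) 0 0 * x + (g : Mat) 0 1 * y) ((g : Mat) 1 0 * x + (g : Mat) 1 1 * y) =
        nf t d x y := by
  set a := (g : Mat) 0 0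
  set b := (g : Mat) 0 1
  set c := (g : Mat) 1 0
  set e := (g : Mat) 1 1
  have hd : a * e - b * c = 1 := (Matrix.det_fin_two _).symm.trans (sl_det g)
  have h2 : (2 : F) = 0 := CharTwo.two_eq_zero
  have hQ : ∀ x y : F, nf t d (a * x + b * y) (c * x + e * y) - nf t d x y =
      (a ^ 2 + t * a * c + d * c ^ 2 - 1) * x ^ 2 + (b ^ 2 + t * b * e + d * e ^ 2 - d) * y ^ 2 := by
    intro x y
    rw [nf, nf]
    linear_combination (t * x * y) * hd + (x * y * (a * b + t * b * c + d * c * e)) * h2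
  by_cases hα : a ^ 2 + t * a * c + d * c ^ 2 - 1 = 0
  · refine ⟨1, 0, fun h => one_ne_zero h.1, sub_eq_zero.1 ?_⟩
    rw [hQ, hα]
    ring
  · obtain ⟨r, hr⟩ := FiniteField.isSquare_of_char_two (ringChar.eq F 2)
      (b ^ 2 + t * b * e + d * e ^ 2 - d)
    obtain ⟨s, hs⟩ := FiniteField.isSquare_of_char_two (ringChar.eq F 2)
      (a ^ 2 + t * a * c + d * c ^ 2 - 1)
    refine ⟨r, s, fun h => hα (by rw [hs, h.2, mul_zero]), sub_eq_zero.1 ?_⟩
    rw [hQ, hr, hs]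
    linear_combination (r * r * (s * s)) * h2

theorem aba_psl (h2 : 2 ∣ Fintype.card F) :
    ∃ A B : Subgroup P2, IsCyclic A ∧ Nat.card A = Fintype.card F + 1 ∧ IsMulCommutative B ∧
      (∀ b ∈ B, b * b = 1) ∧ Nat.card B = Fintype.card F ∧
      ∀ g : P2, ∃ a ∈ A, ∃ b ∈ B, ∃ c ∈ A, g = a * b * c := by
  have hchar : CharP F 2 := by
    obtain ⟨p, hp⟩ := CharP.exists F
    obtain ⟨n, hprime, hn⟩ := FiniteField.card F p
    rw [hn] at h2
    rwa [← (Nat.prime_dvd_prime_iff_eq Nat.prime_two hprime).1 (Nat.prime_two.dvd_of_dvd_pow h2)] at hp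
  have hproj : Function.Injective (proj (F := F)) := by
    intro X Y h
    rcases eq_or_neg_of_proj_eq h with e | e
    · exact e.symm
    · exact (e.trans (Subtype.ext (by ext i j; simp [CharTwo.neg_eq]))).symm
  obtain ⟨t₀, d₀, -, h₀⟩ := exists_irreducible (F := F)
  refine ⟨(torS h₀).map proj, (unipSL F).map proj, ?_, ?_, ?_, ?_, ?_, fun g => ?_⟩
  · have := isCyclic_torS h₀
    exact isCyclic_of_surjective _ (Subgroup.equivMapOfInjective (torS h₀) _ hproj).surjective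
  · rw [← Nat.card_congr (Subgroup.equivMapOfInjective (torS h₀) _ hproj).toEquiv, card_torS]
  · refine ⟨⟨fun x y => Subtype.ext ?_⟩⟩
    obtain ⟨_, ⟨X, rfl⟩, hX⟩ := Subgroup.mem_map.1 x.2
    obtain ⟨_, ⟨Y, rfl⟩, hY⟩ := Subgroup.mem_map.1 y.2
    rw [Subgroup.coe_mul, Subgroup.coe_mul, ← hX, ← hY, ← map_mul, ← map_mul, ← map_mul, ← map_mul,
      mul_comm]
  · intro b hb
    obtain ⟨_, ⟨X, rfl⟩, rfl⟩ := Subgroup.mem_map.1 hb
    rw [← map_mul, ← map_mul,
      show X * X = 1 from Multiplicative.ext (CharTwo.add_self_eq_zero X.toAdd), map_one, map_one]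
  · rw [← Nat.card_congr (Subgroup.equivMapOfInjective (unipSL F) _ hproj).toEquiv, card_unipSL,
      Nat.card_eq_fintype_card]
  obtain ⟨g, rfl⟩ := proj_surjective g
  obtain ⟨x, y, hxy, hN⟩ := exists_norm_eq t₀ d₀ g
  have hN0 : nf t₀ d₀ x y ≠ 0 := fun h => hxy (nf_eq_zero h₀ h)
  obtain ⟨s, hs⟩ := FiniteField.isSquare_of_char_two (ringChar.eq F 2) (nf t₀ d₀ x y)⁻¹
  have hN1 : nf t₀ d₀ (s * x) (s * y) = 1 := by
    have : nf t₀ d₀ (s * x) (s * y) = s * s * nf t₀ d₀ x y := by rw [nf, nf]; ring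
    rw [this, ← hs, inv_mul_cancel₀ hN0]
  set u := (g : Mat) 0 0 * (s * x) + (g : Mat) 0 1 * (s * y) with hu
  set w := (g : Mat) 1 0 * (s * x) + (g : Mat) 1 1 * (s * y) with hw
  have hN2 : nf t₀ d₀ u w = 1 := by
    rw [← hN1]
    rw [nf, nf] at hN
    simp only [hu, hw, nf]
    linear_combination (s * s) * hN
  obtain ⟨c, hc, hcm⟩ := exists_torus_col h₀ hN1
  obtain ⟨a, ha, ham⟩ := exists_torus_col h₀ hN2
  obtain ⟨a00, a10⟩ : (a : Mat) 0 0 = u ∧ (a : Mat) 1 0 = w := by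
    rw [ham]; simp [comp, Matrix.one_apply]
  obtain ⟨c00, c10⟩ : (c : Mat) 0 0 = s * x ∧ (c : Mat) 1 0 = s * y := by
    rw [hcm]; simp [comp, Matrix.one_apply]
  have hb : a⁻¹ * g * c ∈ unipSL F := by
    set b := a⁻¹ * g * c with hb
    have hcol : (a : Mat) * (b : Mat) = (g : Mat) * (c : Mat) := by
      rw [← Matrix.SpecialLinearGroup.coe_mul, ← Matrix.SpecialLinearGroup.coe_mul, hb, ← mul_assoc,
        ← mul_assoc, mul_inv_cancel, one_mul]
    have e0 := congrFun (congrFun hcol 0) 0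
    have e1 := congrFun (congrFun hcol 1) 0
    simp only [Matrix.mul_apply, Fin.sum_univ_two, a00, a10, c00, c10] at e0 e1
    rw [← hu] at e0
    rw [← hw] at e1
    have da := sl_det a
    rw [Matrix.det_fin_two, a00, a10] at da
    have h10 : (b : Mat) 1 0 = 0 := by linear_combination -w * e0 + u * e1 - ((b : Mat) 1 0) * da
    have h00 : (b : Mat) 0 0 = 1 := by
      linear_combination ((a : Mat) 1 1) * e0 - ((a : Mat) 0 1) * e1 + (1 - (b : Mat) 0 0) * da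
    have db := sl_det b
    rw [Matrix.det_fin_two, h00, h10, one_mul, mul_zero, sub_zero] at db
    refine ⟨Multiplicative.ofAdd ((b : Mat) 0 1), Subtype.ext ?_⟩
    rw [uSL_coe]
    ext i j
    fin_cases i <;> fin_cases j <;> simp [h00, h10, db]
  refine ⟨proj a, ⟨a, ha, rfl⟩, proj (a⁻¹ * g * c), ⟨_, hb, rfl⟩, proj c⁻¹,
    ⟨_, (torS h₀).inv_mem hc, rfl⟩, ?_⟩
  rw [← map_mul, ← map_mul]
  congr 1
  group

end CfsgLib.KnownA.SL2Products
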