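import Cfsg.Agent.Lib.KnownA.SL2Torus.Basic
import Mathlib.LinearAlgebra.Matrix.ProjectiveSpecialLinearGroup

/-!
# Products of conjugacy classes in `SL(2, q)` through traces
-/

set_option autoImplicit false

namespace CfsgLib.KnownA.SL2Products

open scoped MatrixGroups
open CfsgLib.KnownB.GL2 CfsgLib.Classical

variable {F : Type*} [Field F]

local notation "Mat" => Matrix (Fin 2) (Fin 2) F

/-- Two projective elements with lifts of the same trace (up to sign) are conjugate. -/
theorem psl_mk_neg (X : SL(2, F)) :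
    ((-X : SL(2, F)) : Matrix.ProjectiveSpecialLinearGroup (Fin 2) F) = (X : SL(2, F)) := by
  rw [QuotientGroup.eq]
  have : (-X)⁻¹ * X = (-1 : SL(2, F)) := by
    rw [inv_mul_eq_iff_eq_mul, mul_neg, mul_one, neg_neg]
  rw [this]
  exact CfsgLib.KnownA.SL2Torus.neg_one_mem_center

theorem exists_conj_low {A : SL(2, F)} (hA : ¬ Scal (A : Mat)) :
    ∃ g : SL(2, F), ((g * A * g⁻¹ : SL(2, F)) : Mat) 1 0 ≠ 0 := by
  by_cases hc : (A : Mat) 1 0 = 0
  · by_cases hb : (A : Mat) 0 1 = 0
    · refine ⟨mkSL !![1, 0; 1, 1] (by simp [Matrix.det_fin_two]), ?_⟩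
      simp [Matrix.SpecialLinearGroup.coe_inv, Matrix.adjugate_fin_two, Matrix.mul_apply,
        Matrix.vecMul, dotProduct, Fin.sum_univ_two, hc, hb]
      intro h
      exact hA ⟨hb, hc, by linear_combination h⟩
    · refine ⟨mkSL !![0, -1; 1, 0] (by simp [Matrix.det_fin_two]), ?_⟩
      simp [Matrix.SpecialLinearGroup.coe_inv, Matrix.adjugate_fin_two, Matrix.mul_apply,
        Matrix.vecMul, dotProduct, Fin.sum_univ_two, hb, hc]
  · exact ⟨1, by simpa using hc⟩

variable [Fintype F]

/-- The traces of the products of two classes are not a single value up to sign. -/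
theorem trace_products (h4 : 4 ≤ Fintype.card F) {A B : SL(2, F)}
    (hA : (A : Mat) 1 0 ≠ 0) (hB : (B : Mat) 1 0 ≠ 0) (t : F) :
    ∃ s : F, ¬ (((A * (mkSL !![1, s; 0, 1] (by simp [Matrix.det_fin_two]) * B *
      (mkSL !![1, s; 0, 1] (by simp [Matrix.det_fin_two]))⁻¹) : SL(2, F)) : Mat).trace = t ∨
      ((A * (mkSL !![1, s; 0, 1] (by simp [Matrix.det_fin_two]) * B *
      (mkSL !![1, s; 0, 1] (by simp [Matrix.det_fin_two]))⁻¹) : SL(2, F)) : Mat).trace = -t) := by
  classical
  by_contra hall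
  push Not at hall
  set a := (A : Mat) 0 0
  set b := (A : Mat) 0 1
  set c := (A : Mat) 1 0 with hc
  set d := (A : Mat) 1 1
  set a' := (B : Mat) 0 0
  set b' := (B : Mat) 0 1
  set c' := (B : Mat) 1 0 with hc'
  set d' := (B : Mat) 1 1
  let P : Polynomial F := Polynomial.C (-(c * c')) * Polynomial.X ^ 2 +
    Polynomial.C (a * c' + c * (d' - a') - d * c') * Polynomial.X +
    Polynomial.C (a * a' + b * c' + c * b' + d * d')
  have hP : ∀ u : F, P.natDegree = 2 ∧ (P - Polynomial.C u).natDegree = 2 := by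
    intro u
    have h1 : P.natDegree = 2 := Polynomial.natDegree_quadratic (neg_ne_zero.2 (mul_ne_zero hA hB))
    refine ⟨h1, ?_⟩
    rw [Polynomial.natDegree_sub_C, h1]
  have hroots : ∀ u : F, (Finset.univ.filter fun s : F => P.eval s = u).card ≤ 2 := by
    intro u
    have hne : P - Polynomial.C u ≠ 0 := fun h => by
      have := (hP u).2; rw [h] at this; simp at this
    calc (Finset.univ.filter fun s : F => P.eval s = u).card
        ≤ (P - Polynomial.C u).roots.toFinset.card := Finset.card_le_card fun s hs => by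
          rw [Multiset.mem_toFinset, Polynomial.mem_roots hne]
          simp [Polynomial.IsRoot, (Finset.mem_filter.1 hs).2]
      _ ≤ Multiset.card (P - Polynomial.C u).roots := Multiset.toFinset_card_le _
      _ ≤ 2 := (hP u).2 ▸ Polynomial.card_roots' _
  have hval : ∀ s : F, P.eval s = t ∨ P.eval s = -t := by
    intro s
    have he : P.eval s = (((A * (mkSL !![1, s; 0, 1] (by simp [Matrix.det_fin_two]) * B *
      (mkSL !![1, s; 0, 1] (by simp [Matrix.det_fin_two]))⁻¹) : SL(2, F)) : Mat)).trace := by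
      simp [P, Matrix.SpecialLinearGroup.coe_inv, Matrix.adjugate_fin_two, Matrix.trace_fin_two,
        Matrix.mul_apply, Matrix.vecMul, dotProduct, Fin.sum_univ_two, a, b, c, d, a', b', c', d']
      ring
    rw [he]
    exact hall s
  have hcard : Fintype.card F ≤ 4 ∧ (t = -t → Fintype.card F ≤ 2) := by
    constructor
    · have h := Finset.card_le_card (s := (Finset.univ : Finset F))
        (t := (Finset.univ.filter fun s : F => P.eval s = t) ∪
          Finset.univ.filter fun s : F => P.eval s = -t) (fun s _ => by simpa using hval s)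
      rw [Finset.card_univ] at h
      exact h.trans ((Finset.card_union_le _ _).trans (Nat.add_le_add (hroots t) (hroots (-t))))
    · intro ht
      have h := Finset.card_le_card (s := (Finset.univ : Finset F))
        (t := Finset.univ.filter fun s : F => P.eval s = t) (fun s _ => by
          rcases hval s with h | h
          · simp [h]
          · simp [h, ← ht])
      rw [Finset.card_univ] at h
      exact h.trans (hroots t)
  have hq4 : Fintype.card F = 4 := le_antisymm hcard.1 h4
  have hchar : CharP F 2 := by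
    obtain ⟨p, hp⟩ := CharP.exists F
    obtain ⟨n, hprime, hn⟩ := FiniteField.card F p
    have : p ∣ 2 ^ 2 := ⟨p ^ ((n : ℕ) - 1), by
      rw [← pow_succ', Nat.sub_add_cancel n.pos, ← hn, hq4]; norm_num⟩
    rwa [(Nat.prime_dvd_prime_iff_eq hprime Nat.prime_two).1 (hprime.dvd_of_dvd_pow this)] at hp
  have := hcard.2 (CharTwo.neg_eq t).symm
  omega

omit [Fintype F] in
/-- An element of trace `τ` splitting a given element into two of trace `τ`, given a root. -/
theorem split_factor {G : SL(2, F)} (hG : ¬ Scal (G : Mat)) {τ r : F} (hr : r ^ 2 - τ * r + 1 = 0) :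
    ∃ X : Mat, X.det = 1 ∧ X.trace = τ ∧ (X.adjugate * (G : Mat)).trace = τ := by
  obtain ⟨P, hP, hPG⟩ := exists_comp hG
  set γ := (G : Mat).trace
  have hd := sl_det G
  rw [hd] at hPG
  let X₀ : Mat := !![r, 0; τ - r * γ, τ - r]
  have hu : IsUnit P.det := isUnit_iff_ne_zero.2 hP
  refine ⟨P * X₀ * P⁻¹, ?_, ?_, ?_⟩
  · rw [Matrix.det_conj ((Matrix.isUnit_iff_isUnit_det P).2 hu)]
    simp [X₀, Matrix.det_fin_two]
    linear_combination -hr
  · rw [Matrix.trace_mul_cycle, Matrix.nonsing_inv_mul _ hu, Matrix.one_mul]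
    simp [X₀, Matrix.trace_fin_two]
  · have hG' : (G : Mat) = P * comp γ 1 * P⁻¹ := by
      rw [← hPG, Matrix.mul_nonsing_inv_cancel_right _ _ hu]
    have hadj : (P * X₀ * P⁻¹).adjugate = P * X₀.adjugate * P⁻¹ := by
      rw [Matrix.adjugate_mul_distrib, Matrix.adjugate_mul_distrib, Matrix.inv_def,
        Matrix.adjugate_smul, Matrix.adjugate_adjugate' P]
      simp [Matrix.mul_smul, Matrix.smul_mul, Ring.inverse_eq_inv', Matrix.mul_assoc]
    rw [hadj, hG']
    have e : P * X₀.adjugate * P⁻¹ * (P * comp γ 1 * P⁻¹) = P * (X₀.adjugate * comp γ 1) * P⁻¹ := by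
      simp only [Matrix.mul_assoc]
      rw [← Matrix.mul_assoc P⁻¹ P, Matrix.nonsing_inv_mul _ hu, Matrix.one_mul]
    rw [e, Matrix.trace_mul_cycle, Matrix.nonsing_inv_mul _ hu, Matrix.one_mul]
    simp [X₀, comp, Matrix.adjugate_fin_two, Matrix.trace_fin_two]

/-- An element of trace `τ ≠ 0` splitting a given element of trace `≠ 2`, odd characteristic. -/
theorem odd_factor (h2 : (2 : F) ≠ 0) {G : SL(2, F)} (hG : ¬ Scal (G : Mat)) {τ : F} (hτ : τ ≠ 0)
    (hγ : (G : Mat).trace ≠ 2) :
    ∃ X : Mat, X.det = 1 ∧ X.trace = τ ∧ (X.adjugate * (G : Mat)).trace = τ := by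
  obtain ⟨P, hP, hPG⟩ := exists_comp hG
  set γ := (G : Mat).trace
  have hd := sl_det G
  rw [hd] at hPG
  obtain ⟨a, b, hab⟩ : ∃ a b : F, -a ^ 2 + γ * a * b - b ^ 2 + τ * a - τ * b - 1 = 0 := by
    by_cases hγ' : γ = -2
    · refine ⟨1 / (2 * τ), -(1 / (2 * τ)), ?_⟩
      rw [hγ']
      field_simp
      ring
    · have hD : γ ^ 2 - 4 ≠ 0 := by
        intro h
        have : (γ - 2) * (γ + 2) = 0 := by linear_combination h
        rcases mul_eq_zero.1 this with e | e
        · exact hγ (sub_eq_zero.1 e)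
        · exact hγ' (eq_neg_of_add_eq_zero_left e)
      obtain ⟨x, y, hxy⟩ := exists_nf_eq (t := -γ) (d := 1)
        (Or.inl (by rw [dsc]; intro h; exact hD (by linear_combination h))) (τ ^ 2 / (2 + γ) - 1)
      have hg2 : (2 : F) + γ ≠ 0 := fun h => hγ' (by linear_combination h)
      refine ⟨x + τ / (2 + γ), y - τ / (2 + γ), ?_⟩
      rw [nf] at hxy
      field_simp at hxy ⊢
      linear_combination (-(2 + γ)) * hxy
  let X₀ : Mat := !![a, b; τ + b - a * γ, τ - a]
  have hu : IsUnit P.det := isUnit_iff_ne_zero.2 hP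
  refine ⟨P * X₀ * P⁻¹, ?_, ?_, ?_⟩
  · rw [Matrix.det_conj ((Matrix.isUnit_iff_isUnit_det P).2 hu)]
    simp [X₀, Matrix.det_fin_two]
    linear_combination hab
  · rw [Matrix.trace_mul_cycle, Matrix.nonsing_inv_mul _ hu, Matrix.one_mul]
    simp [X₀, Matrix.trace_fin_two]
  · have hG' : (G : Mat) = P * comp γ 1 * P⁻¹ := by
      rw [← hPG, Matrix.mul_nonsing_inv_cancel_right _ _ hu]
    have hadj : (P * X₀ * P⁻¹).adjugate = P * X₀.adjugate * P⁻¹ := by
      rw [Matrix.adjugate_mul_distrib, Matrix.adjugate_mul_distrib, Matrix.inv_def,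
        Matrix.adjugate_smul, Matrix.adjugate_adjugate' P]
      simp [Matrix.mul_smul, Matrix.smul_mul, Ring.inverse_eq_inv', Matrix.mul_assoc]
    rw [hadj, hG']
    have e : P * X₀.adjugate * P⁻¹ * (P * comp γ 1 * P⁻¹) = P * (X₀.adjugate * comp γ 1) * P⁻¹ := by
      simp only [Matrix.mul_assoc]
      rw [← Matrix.mul_assoc P⁻¹ P, Matrix.nonsing_inv_mul _ hu, Matrix.one_mul]
    rw [e, Matrix.trace_mul_cycle, Matrix.nonsing_inv_mul _ hu, Matrix.one_mul]
    simp [X₀, comp, Matrix.adjugate_fin_two, Matrix.trace_fin_two]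

end CfsgLib.KnownA.SL2Products
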