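import Cfsg.Agent.Lib.KnownA.SL2Products.PSL
import Cfsg.Agent.Lib.KnownC.PSL2Classes
import Cfsg.Agent.Lib.Classical.Dickson.PSL

/-!
# Element orders of `PSL(2, q)`
-/

set_option autoImplicit false

namespace CfsgLib.KnownA.SL2Products

open scoped MatrixGroups
open CfsgLib.KnownB.GL2 CfsgLib.Classical CfsgLib.KnownA.SL2Torus

variable {F : Type*} [Field F] [Fintype F]

local notation "Mat" => Matrix (Fin 2) (Fin 2) F
local notation "P2" => Matrix.ProjectiveSpecialLinearGroup (Fin 2) F

theorem orderOf_proj (p : ℕ) [Fact p.Prime] [CharP F p] {g : SL(2, F)}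
    (hpar : p = 2 → Odd (orderOf g)) :
    orderOf (proj g) = orderOf g / Nat.gcd 2 (orderOf g) := by
  have hm : 0 < orderOf g := orderOf_pos g
  have hone : ∀ k, (proj g) ^ k = 1 → orderOf g ∣ 2 * k := fun k h => by
    rw [← map_pow, proj_eq_one] at h
    refine orderOf_dvd_of_pow_eq_one ?_
    rw [mul_comm, pow_mul]
    rcases h with e | e <;> rw [e]
    · rw [one_pow]
    · rw [pow_two, neg_one_sq']
  rcases Nat.even_or_odd (orderOf g) with he | ho
  · obtain ⟨j, hj⟩ := he
    have hj2 : orderOf g = 2 * j := by omega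
    rw [hj2, Nat.gcd_eq_left (dvd_mul_right 2 j), Nat.mul_div_cancel_left _ two_pos]
    refine Nat.dvd_antisymm (orderOf_dvd_of_pow_eq_one ?_) ?_
    · have hp2 : p ≠ 2 := fun h => Nat.not_odd_iff_even.2 ⟨j, hj⟩ (hpar h)
      rw [← map_pow, proj_eq_one]
      refine Or.inr (sl2_eq_neg_one (two_ne_zero_of_char (F := F) p hp2) ?_ ?_)
      · intro h
        have := Nat.le_of_dvd (by omega) (orderOf_dvd_of_pow_eq_one h)
        omega
      · rw [← pow_add, ← hj, pow_orderOf_eq_one]
    · have h := hone _ (pow_orderOf_eq_one (proj g))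
      rw [hj2] at h
      exact Nat.dvd_of_mul_dvd_mul_left two_pos h
  · have hcop : Nat.Coprime 2 (orderOf g) := Nat.coprime_two_left.2 ho
    rw [hcop, Nat.div_one]
    exact Nat.dvd_antisymm (orderOf_map_dvd _ _)
      (hcop.symm.dvd_of_dvd_mul_left (hone _ (pow_orderOf_eq_one (proj g))))

theorem exists_orderOf_of_dvd {G : Type*} [Group G] [Finite G] {g : G} {m : ℕ}
    (h : m ∣ orderOf g) : ∃ x : G, orderOf x = m := by
  obtain ⟨c, hc⟩ := h
  have h0 : 0 < orderOf g := orderOf_pos g
  rw [hc] at h0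
  refine ⟨g ^ c, ?_⟩
  rw [orderOf_pow_of_dvd (Nat.pos_of_mul_pos_left h0).ne' ⟨m, by rw [hc, mul_comm]⟩, hc,
    Nat.mul_div_cancel _ (Nat.pos_of_mul_pos_left h0)]

theorem orders_psl (p : ℕ) [Fact p.Prime] [CharP F p] (h4 : 4 ≤ Fintype.card F) :
    Set.range (orderOf : P2 → ℕ) =
      {m : ℕ | m ∣ p ∨ m ∣ (Fintype.card F - 1) / Nat.gcd 2 (Fintype.card F - 1) ∨
        m ∣ (Fintype.card F + 1) / Nat.gcd 2 (Fintype.card F - 1)} := by
  classical
  obtain ⟨n, hp, hn⟩ := FiniteField.card F p
  have hgcd : Nat.gcd 2 (Fintype.card F + 1) = Nat.gcd 2 (Fintype.card F - 1) := by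
    rw [show Fintype.card F + 1 = Fintype.card F - 1 + 2 by omega, Nat.gcd_add_self_right]
  have heven : p = 2 → Even (Fintype.card F) := fun h => by
    rw [hn, h]; exact Nat.even_pow.2 ⟨even_two, n.ne_zero⟩
  ext m
  simp only [Set.mem_range, Set.mem_setOf_eq]
  constructor
  · rintro ⟨c, rfl⟩
    by_cases hk : p ∣ orderOf c
    · refine Or.inl (orderOf_dvd_of_pow_eq_one ?_)
      obtain ⟨g, rfl⟩ := proj_surjective c
      apply Matrix.ProjectiveSpecialLinearGroup.toPGL_injective
      rw [map_pow, map_one]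
      refine (CfsgLib.KnownC.PSL2Classes.pow_eq_one_or p _ ⟨g, rfl⟩).resolve_right fun h => h ?_
      rwa [← orderOf_injective _ Matrix.ProjectiveSpecialLinearGroup.toPGL_injective] at hk
    · exact Or.inr (CfsgLib.Classical.Dickson.psl_order_dvd p hk)
  · rintro (h | h | h)
    · have hu : orderOf (parSL (1 : F) 1 (one_pow 2)) = p := by
        refine orderOf_eq_prime (sl2_pow_char p _ ?_) ?_
        · rw [Matrix.det_fin_two]; simp [coe_parSL]
        · intro e
          have := congrArg (fun x : SL(2, F) => (x : Mat) 0 1) e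
          simp [coe_parSL] at this
      have ho : orderOf (proj (parSL (1 : F) 1 (one_pow 2))) = p := by
        refine orderOf_eq_prime ?_ ?_
        · rw [← map_pow, orderOf_dvd_iff_pow_eq_one.1 hu.dvd, map_one]
        · intro e
          rcases proj_eq_one.1 e with e | e <;>
            · have := congrArg (fun x : SL(2, F) => (x : Mat) 0 1) e
              simp [coe_parSL] at this
      exact exists_orderOf_of_dvd (ho.symm ▸ h)
    · obtain ⟨g, hg⟩ := exists_sl2_minus (F := F)
      have ho := orderOf_proj (F := F) p (g := g) fun hp2 => by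
        obtain ⟨k, hk⟩ := heven hp2
        exact hg ▸ ⟨k - 1, by omega⟩
      exact exists_orderOf_of_dvd (g := proj g) (by rw [ho, hg]; exact h)
    · obtain ⟨g, hg⟩ := exists_sl2_plus (F := F) p
      have ho := orderOf_proj (F := F) p (g := g) fun hp2 => by
        obtain ⟨k, hk⟩ := heven hp2
        exact hg ▸ ⟨k, by omega⟩
      exact exists_orderOf_of_dvd (g := proj g) (by rw [ho, hg, hgcd]; exact h)

end CfsgLib.KnownA.SL2Products
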