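import Cfsg.Agent.Lib.KnownA.SL2Products.Basic
import Cfsg.Agent.Lib.KnownA.SL2Torus.Exist

/-!
# Products of classes in `PSL(2, q)`
-/

set_option autoImplicit false

namespace CfsgLib.KnownA.SL2Products

open scoped MatrixGroups
open CfsgLib.KnownB.GL2 CfsgLib.Classical CfsgLib.KnownA.SL2Torus

variable {F : Type*} [Field F]

local notation "Mat" => Matrix (Fin 2) (Fin 2) F
local notation "P2" => Matrix.ProjectiveSpecialLinearGroup (Fin 2) F

/-- The projection to `PSL₂`. -/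
def proj : SL(2, F) →* P2 := QuotientGroup.mk' _

theorem proj_surjective : Function.Surjective (proj (F := F)) := QuotientGroup.mk'_surjective _

theorem proj_eq_one {X : SL(2, F)} : proj X = 1 ↔ X = 1 ∨ X = -1 := by
  change (X : P2) = 1 ↔ _
  rw [QuotientGroup.eq_one_iff, ← scal_iff_pm, Matrix.SpecialLinearGroup.mem_center_iff]
  constructor
  · rintro ⟨r, -, hr⟩
    rw [← hr]
    simp [Scal, Matrix.scalar_apply]
  · intro h
    obtain ⟨c, hc⟩ := (scal_iff_exists _).1 h
    have hd := sl_det X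
    rw [hc, Matrix.det_smul, Matrix.det_one, mul_one] at hd
    exact ⟨c, hd, by rw [hc, Matrix.smul_one_eq_diagonal]; rfl⟩

theorem proj_neg (X : SL(2, F)) : proj (-X) = proj X := psl_mk_neg X

theorem eq_or_neg_of_proj_eq {X Y : SL(2, F)} (h : proj X = proj Y) : Y = X ∨ Y = -X := by
  have h1 : proj (X⁻¹ * Y) = 1 := by rw [map_mul, map_inv, h, inv_mul_cancel]
  rcases proj_eq_one.1 h1 with e | e
  · exact Or.inl (inv_mul_eq_one.1 e).symm
  · refine Or.inr ?_
    rw [inv_mul_eq_iff_eq_mul.1 e, mul_neg, mul_one]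

variable [Fintype F]

/-- No product of two non-trivial classes of `PSL₂` is one class. -/
theorem product_ne_class (h4 : 4 ≤ Fintype.card F) (a b : P2) (ha : a ≠ 1) (hb : b ≠ 1) (c : P2) :
    {g : P2 | ∃ u v : P2, g = (u * a * u⁻¹) * (v * b * v⁻¹)} ≠ {g | IsConj c g} := by
  intro hset
  obtain ⟨A₀, rfl⟩ := proj_surjective a
  obtain ⟨B₀, rfl⟩ := proj_surjective b
  obtain ⟨C, rfl⟩ := proj_surjective c
  obtain ⟨g, hA⟩ := exists_conj_low (A := A₀) fun h => ha (proj_eq_one.2 ((scal_iff_pm _).1 h))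
  obtain ⟨g', hB⟩ := exists_conj_low (A := B₀) fun h => hb (proj_eq_one.2 ((scal_iff_pm _).1 h))
  obtain ⟨s, hs⟩ := trace_products h4 hA hB (C : Mat).trace
  set u : SL(2, F) := mkSL !![1, s; 0, 1] (by simp [Matrix.det_fin_two])
  have hmem : proj (g * A₀ * g⁻¹ * (u * (g' * B₀ * g'⁻¹) * u⁻¹)) ∈
      {x : P2 | ∃ y z : P2, x = (y * proj A₀ * y⁻¹) * (z * proj B₀ * z⁻¹)} :=
    ⟨proj g, proj (u * g'), by simp only [map_mul, map_inv, mul_inv_rev]; group⟩
  rw [hset] at hmem
  obtain ⟨h, hh⟩ := isConj_iff.1 hmem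
  obtain ⟨H, rfl⟩ := proj_surjective h
  rw [← map_inv, ← map_mul, ← map_mul] at hh
  apply hs
  rcases eq_or_neg_of_proj_eq hh with e | e
  · left; rw [e, trace_conj]
  · right
    rw [e, Matrix.SpecialLinearGroup.coe_neg, Matrix.trace_neg, trace_conj]

theorem exists_conj_of_trace {X Y : SL(2, F)} (hX : ¬ Scal (X : Mat)) {τ : F} (hτ : (X : Mat).trace = τ)
    (hns : dsc τ 1 ≠ 0) (hY : (Y : Mat).trace = τ) : ∃ h : P2, h * proj X * h⁻¹ = proj Y := by
  have hYs : ¬ Scal (Y : Mat) := fun h => by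
    rcases (scal_iff_pm Y).1 h with rfl | rfl <;> apply hns <;> rw [← hY, dsc] <;>
      simp [Matrix.trace_fin_two] <;> ring
  obtain ⟨h, hh⟩ := isConj_iff.1 (sl_isConj_of_trace hX hYs (hτ.trans hY.symm) (Or.inl (hτ.symm ▸ hns)))
  exact ⟨proj h, by rw [← hh, map_mul, map_mul, map_inv]⟩

theorem square_eq_neg_one {X : SL(2, F)} (h : (X : Mat).trace = 0) : X * X = -1 := by
  apply Subtype.ext
  have := sl2_sq X
  rw [h, zero_smul, zero_sub] at this
  simpa using this

theorem covers_of_factor {X G : SL(2, F)} (hX : ¬ Scal (X : Mat))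
    (hns : dsc (X : Mat).trace 1 ≠ 0)
    (hfac : ∃ Y : Mat, Y.det = 1 ∧ Y.trace = (X : Mat).trace ∧
      (Y.adjugate * (G : Mat)).trace = (X : Mat).trace) :
    ∃ u v : P2, proj G = (u * proj X * u⁻¹) * (v * proj X * v⁻¹) := by
  obtain ⟨Y, hd, hY, hYG⟩ := hfac
  obtain ⟨u, hu⟩ := exists_conj_of_trace (Y := mkSL Y hd) hX rfl hns hY
  obtain ⟨v, hv⟩ := exists_conj_of_trace (Y := (mkSL Y hd)⁻¹ * G) hX rfl hns
    (by rw [Matrix.SpecialLinearGroup.coe_mul, Matrix.SpecialLinearGroup.coe_inv]; exact hYG)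
  exact ⟨u, v, by rw [hu, hv, ← map_mul, mul_inv_cancel_left]⟩

theorem covers_odd (p : ℕ) [Fact p.Prime] [CharP F p] (hp : p ≠ 2) (x : P2) (hx2 : 2 < orderOf x)
    (hxp : ¬ p ∣ orderOf x) (g : P2) (hg : g ≠ 1) :
    ∃ u v : P2, g = (u * x * u⁻¹) * (v * x * v⁻¹) := by
  classical
  have h2 := two_ne_zero_of_char (F := F) p hp
  obtain ⟨X, rfl⟩ := proj_surjective x
  have hle : ∀ k, 0 < k → proj X ^ k = 1 → orderOf (proj X) ≤ k := fun k hk h =>
    Nat.le_of_dvd hk (orderOf_dvd_of_pow_eq_one h)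
  have hne1 : proj X ≠ 1 := fun h => by rw [h, orderOf_one] at hx2; omega
  have hXs : ¬ Scal (X : Mat) := fun h => hne1 (proj_eq_one.2 ((scal_iff_pm _).1 h))
  have hτ : (X : Mat).trace ≠ 0 := fun h => by
    have := hle 2 two_pos (by
      rw [pow_two, ← map_mul, square_eq_neg_one h]
      exact proj_eq_one.2 (Or.inr rfl))
    omega
  have hns : dsc (X : Mat).trace 1 ≠ 0 := by
    intro h
    rw [dsc] at h
    have hd := sl_det X
    rw [Matrix.det_fin_two] at hd
    rw [Matrix.trace_fin_two] at h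
    have hord : proj X ^ p = 1 := by
      have e : ((X : Mat) 0 0 + (X : Mat) 1 1 - 2) * ((X : Mat) 0 0 + (X : Mat) 1 1 + 2) = 0 := by
        linear_combination h
      rcases mul_eq_zero.1 e with e | e
      · rw [← map_pow, sl2_pow_char p X (by
          rw [Matrix.det_fin_two]; simp; linear_combination hd - e), map_one]
      · rw [← proj_neg X, ← map_pow, sl2_pow_char p (-X) (by
          rw [Matrix.det_fin_two]; simp; linear_combination hd + e), map_one]
    rcases (Nat.dvd_prime Fact.out).1 (orderOf_dvd_of_pow_eq_one hord) with e | e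
    · omega
    · exact hxp (e ▸ dvd_refl _)
  obtain ⟨G₀, rfl⟩ := proj_surjective g
  obtain ⟨G, hGp, hG2⟩ : ∃ G, proj G = proj G₀ ∧ (G : Mat).trace ≠ 2 := by
    by_cases h : (G₀ : Mat).trace = 2
    · refine ⟨-G₀, proj_neg G₀, ?_⟩
      rw [Matrix.SpecialLinearGroup.coe_neg, Matrix.trace_neg, h]
      intro e
      exact mul_ne_zero h2 h2 (by linear_combination (-1 : F) * e)
    · exact ⟨G₀, rfl, h⟩
  have hGs : ¬ Scal (G : Mat) := fun h => hg (hGp ▸ proj_eq_one.2 ((scal_iff_pm _).1 h))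
  rw [← hGp]
  exact covers_of_factor hXs hns (odd_factor h2 hGs hτ hG2)

theorem covers_even [CharP F 2] (x : P2) (hx2 : 2 < orderOf x)
    (hxq : ¬ orderOf x ∣ Fintype.card F + 1) (g : P2) (hg : g ≠ 1) :
    ∃ u v : P2, g = (u * x * u⁻¹) * (v * x * v⁻¹) := by
  classical
  obtain ⟨X, rfl⟩ := proj_surjective x
  have hne1 : proj X ≠ 1 := fun h => by rw [h, orderOf_one] at hx2; omega
  have hXs : ¬ Scal (X : Mat) := fun h => hne1 (proj_eq_one.2 ((scal_iff_pm _).1 h))
  have hτ : (X : Mat).trace ≠ 0 := fun h => by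
    have := Nat.le_of_dvd two_pos (orderOf_dvd_of_pow_eq_one (x := proj X) (n := 2) (by
      rw [pow_two, ← map_mul, square_eq_neg_one h]
      exact proj_eq_one.2 (Or.inr rfl)))
    omega
  have hns : dsc (X : Mat).trace 1 ≠ 0 := by
    have h2 : (2 : F) = 0 := CharTwo.two_eq_zero
    have h4 : (4 : F) = 0 := by linear_combination (2 : F) * h2
    rw [dsc, h4]
    simpa using hτ
  obtain ⟨r, hr⟩ : (rts (X : Mat).trace 1).Nonempty := by
    rw [Finset.nonempty_iff_ne_empty]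
    intro h
    apply hxq
    refine (orderOf_map_dvd _ _).trans ?_
    rw [← card_cent_elliptic hXs h hns]
    exact Subgroup.orderOf_dvd_natCard _ (Subgroup.mem_centralizer_singleton_iff.2 rfl)
  obtain ⟨G, rfl⟩ := proj_surjective g
  exact covers_of_factor hXs hns
    (split_factor (fun h => hg (proj_eq_one.2 ((scal_iff_pm _).1 h))) (mem_rts.1 hr))

end CfsgLib.KnownA.SL2Products
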